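import Groth.Agent.Lib.FlatStab19.Kernel
import Groth.Agent.Lib.MonoFact19.Basic
import Groth.Agent.Lib.GrpdSub19.Basic
import Groth.Agent.Lib.GrpdDense19.Main
import Groth.Agent.Lib.SchBasic.Basic
import Groth.Agent.Lib.FppfSource.Scheme

/-!
# The image of `(t, s)` for a flat stabilizer, and quotients over dense opens
-/

set_option autoImplicit false
set_option linter.style.haveILetI false
set_option linter.unusedSectionVars false
set_option backward.isDefEq.respectTransparency.types false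
universe u

open CategoryTheory CategoryTheory.Limits AlgebraicGeometry

noncomputable section

namespace Groth.Agent.FlatStab19

open Groth.Agent.GrpdB

theorem exists_desc_mono {A B Q X : Scheme.{u}} (P : A ⟶ B) [Surjective P] [Flat P] [LocallyOfFinitePresentation P]
    (c : A ⟶ Q) (i : Q ⟶ X) [Mono i] (k : B ⟶ X) (h : c ≫ i = P ≫ k) : ∃ m : B ⟶ Q, m ≫ i = k := by
  refine ⟨EffectiveEpi.desc P c fun {Z} g₁ g₂ hg => ?_, ?_⟩
  · rw [← cancel_mono i, Category.assoc, Category.assoc, h, reassoc_of% hg]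
  · rw [← cancel_epi P, EffectiveEpi.fac_assoc, h]

/-- A leg of the image of `(t, s)`. -/
theorem leg_props {R Y U : Scheme.{u}} [IsLocallyNoetherian U] (ψ : R ⟶ Y) [Surjective ψ] [Flat ψ]
    [LocallyOfFinitePresentation ψ] (m : Y ⟶ U) (t : R ⟶ U) (e : ψ ≫ m = t) [Flat t] [LocallyOfFiniteType t]
    [QuasiCompact t] :
    Flat m ∧ LocallyOfFinitePresentation m ∧ QuasiCompact m ∧ QuasiSeparated m := by
  subst e
  haveI : LocallyOfFiniteType m := AlgSpDescent.locallyOfFiniteType_of_fppf_comp ψ m inferInstance inferInstance inferInstance inferInstance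
  haveI : IsLocallyNoetherian Y := LocallyOfFiniteType.isLocallyNoetherian m
  refine ⟨Flat.of_stalkMap m fun y => ?_, inferInstance, ⟨fun V hV hVc => ?_⟩, inferInstance⟩
  · obtain ⟨x, rfl⟩ := ψ.surjective y
    exact Descend.flat_stalkMap_of_comp ψ m x (Flat.stalkMap _ _) (Flat.stalkMap _ _)
  · have := (QuasiCompact.isCompact_preimage (f := ψ ≫ m) V hV hVc).image ψ.continuous
    rwa [Scheme.Hom.comp_base, TopCat.coe_comp, Set.preimage_comp, Set.image_preimage_eq _ ψ.surjective] at this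

variable {S : Scheme.{u}} [IsNoetherian S] (G : Grpd.GroupoidScheme S)
  [Flat G.s] [LocallyOfFiniteType G.s] [QuasiCompact G.s] [LocallyOfFiniteType G.pU] [QuasiCompact G.pU]

theorem lfp_j : LocallyOfFinitePresentation G.j := by
  haveI := GrpdDense19.isNoetherian_U G
  haveI : LocallyOfFinitePresentation (G.j ≫ pullback.snd G.pU G.pU) := by rw [j_snd]; infer_instance
  exact SchBasic.locallyOfFinitePresentation_of_comp _ (pullback.snd G.pU G.pU)

/-- The image groupoid. -/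
theorem exists_image [Flat G.stabilizerToU] :
    ∃ (Y : Scheme.{u}) (ψ : G.R ⟶ Y) (τ : Y ⟶ pullback G.pU G.pU) (_ : Mono τ)
      (_ : GrpdSub19.SubData (GrpdSub19.pair G) τ),
      Surjective ψ ∧ Flat ψ ∧ LocallyOfFinitePresentation ψ ∧ ψ ≫ τ = G.j := by
  haveI := flat_fst_of_stabilizer G
  haveI := lfp_j G
  obtain ⟨Y, ψ, τ, h1, h2, h3, h4, hψ⟩ := MonoFact19.exists_factor G.j
  haveI := h1; haveI := h2; haveI := h3; haveI := h4
  let P := GrpdSub19.pair G
  have hs : ψ ≫ τ ≫ P.s = G.s := by rw [← Category.assoc, hψ]; exact j_snd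
  have ht : ψ ≫ τ ≫ P.t = G.t := by rw [← Category.assoc, hψ]; exact j_fst
  obtain ⟨i, hi⟩ := exists_desc_mono ψ (G.i ≫ ψ) τ (τ ≫ P.i) (by
    rw [Category.assoc, hψ, ← Category.assoc, hψ]
    refine pullback.hom_ext ?_ ?_
    · rw [Category.assoc, Category.assoc, j_fst, G.i_t]
      show G.s = G.j ≫ pullback.lift _ _ _ ≫ pullback.fst _ _
      rw [pullback.lift_fst, j_snd]
    · rw [Category.assoc, Category.assoc, j_snd, G.i_s]
      show G.t = G.j ≫ pullback.lift _ _ _ ≫ pullback.snd _ _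
      rw [pullback.lift_snd, j_fst])
  let M : pullback G.s G.t ⟶ pullback (τ ≫ P.s) (τ ≫ P.t) :=
    pullback.map G.s G.t (τ ≫ P.s) (τ ≫ P.t) ψ ψ (𝟙 G.U) ((Category.comp_id _).trans hs.symm)
      ((Category.comp_id _).trans ht.symm)
  haveI : Surjective M := MorphismProperty.pullbackMap (P := @Surjective) h1 h1 hs.symm ht.symm
  haveI : Flat M := MorphismProperty.pullbackMap (P := @Flat) h2 h2 hs.symm ht.symm
  haveI : LocallyOfFinitePresentation M :=
    MorphismProperty.pullbackMap (P := @LocallyOfFinitePresentation) h3 h3 hs.symm ht.symm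
  obtain ⟨c, hc⟩ := exists_desc_mono M (G.c ≫ ψ) τ
    (cmp P (pullback.fst _ _ ≫ τ) (pullback.snd _ _ ≫ τ) ((Category.assoc _ _ _).trans ((pullback.condition (f := τ ≫ P.s) (g := τ ≫ P.t)).trans (Category.assoc _ _ _).symm)))
    (by
      have e : pullback.lift (pullback.fst G.s G.t) (pullback.snd G.s G.t) pullback.condition = 𝟙 _ := by
        apply pullback.hom_ext <;> simp only [pullback.lift_fst, pullback.lift_snd, Category.id_comp]
      have hF := (GrpdSub19.toPair G).comm_c (pullback.fst G.s G.t) (pullback.snd G.s G.t) pullback.condition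
      rw [e, Category.id_comp] at hF
      refine ((Category.assoc _ _ _).trans (congrArg (G.c ≫ ·) hψ)).trans ?_
      refine hF.trans (Eq.trans ?_ (comp_cmp M _ _ _).symm)
      refine cmp_congr ?_ ?_ _
      · exact ((congrArg (pullback.fst G.s G.t ≫ ·) hψ.symm).trans (Category.assoc _ _ _).symm).trans
          ((congrArg (· ≫ τ) (pullback.lift_fst _ _ _).symm).trans (Category.assoc _ _ _))
      · exact ((congrArg (pullback.snd G.s G.t ≫ ·) hψ.symm).trans (Category.assoc _ _ _).symm).trans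
          ((congrArg (· ≫ τ) (pullback.lift_snd _ _ _).symm).trans (Category.assoc _ _ _)))
  have he : (G.e ≫ ψ) ≫ τ = P.e := by
    rw [Category.assoc, hψ]
    refine pullback.hom_ext ?_ ?_
    · rw [Category.assoc, j_fst, G.e_t]; exact (diag_fst (G := G)).symm
    · rw [Category.assoc, j_snd, G.e_s]; exact (diag_snd (G := G)).symm
  exact ⟨Y, ψ, τ, h4, ⟨G.e ≫ ψ, i, c, he, hi, hc⟩, h1, h2, h3, hψ⟩

/-- Dense saturated open with flat quotient, for a flat stabilizer. -/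
theorem exists_quotient_of_flat [Flat G.stabilizerToU] :
    ∃ (W : G.U.Opens) (hW : G.t ⁻¹ᵁ W = G.s ⁻¹ᵁ W), Dense (W : Set G.U) ∧
      ∃ (V : Scheme.{u}) (p : (W : Scheme.{u}) ⟶ V)
        (w : G.t.resLE W (G.s ⁻¹ᵁ W) hW.ge ≫ p = (G.s ∣_ W) ≫ p) (q : V ⟶ S),
        Nonempty (IsColimit (Cofork.ofπ p w)) ∧ p ≫ q = W.ι ≫ G.pU ∧
        Surjective p ∧ Flat p ∧ LocallyOfFinitePresentation p ∧ LocallyOfFiniteType q ∧ QuasiCompact q := by
  haveI := GrpdDense19.isNoetherian_U G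
  haveI := GrpdDense19.isNoetherian_R G
  haveI := lfp_j G
  obtain ⟨Y, ψ, τ, hτ, d, h1, h2, h3, hψ⟩ := exists_image G
  haveI := hτ; haveI := h1; haveI := h2; haveI := h3
  let H := @GrpdSub19.sub S (GrpdSub19.pair G) Y τ hτ d
  have hs : ψ ≫ H.s = G.s := ((Category.assoc _ _ _).symm.trans (congrArg (· ≫ _) hψ)).trans j_snd
  have ht : ψ ≫ H.t = G.t := ((Category.assoc _ _ _).symm.trans (congrArg (· ≫ _) hψ)).trans j_fst
  haveI : IsLocallyNoetherian H.U := inferInstanceAs (IsLocallyNoetherian G.U)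
  obtain ⟨hsf, hsl, hsc, -⟩ := leg_props (U := G.U) ψ H.s G.s hs
  haveI : Flat H.s := hsf
  haveI : LocallyOfFinitePresentation H.s := hsl
  haveI : QuasiCompact H.s := hsc
  haveI : LocallyOfFiniteType H.pU := ‹LocallyOfFiniteType G.pU›
  haveI : QuasiCompact H.pU := ‹QuasiCompact G.pU›
  have hj : H.j = τ := @GrpdSub19.j_sub S G Y τ hτ d
  haveI : Mono H.j := by rw [hj]; exact hτ
  haveI : LocallyOfFiniteType H.j := by
    haveI : LocallyOfFiniteType (H.j ≫ pullback.snd H.pU H.pU) := by rw [j_snd]; infer_instance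
    exact locallyOfFiniteType_of_comp H.j (pullback.snd H.pU H.pU)
  haveI : LocallyQuasiFinite H.j := .of_injective H.j.injective
  obtain ⟨W₀, hW₀, hd, V, p₀, w₀, q, hcol, hq₀, hps₀, -, hpf₀, hqf, hqc, -, -, hmono⟩ :=
    GrpdDense19.exists_quotient H
  let W : G.U.Opens := W₀
  let sY : Y ⟶ G.U := τ ≫ pullback.snd G.pU G.pU
  let tY : Y ⟶ G.U := τ ≫ pullback.fst G.pU G.pU
  let p : (W : Scheme.{u}) ⟶ V := p₀
  have hW : tY ⁻¹ᵁ W = sY ⁻¹ᵁ W := hW₀
  have w : tY.resLE W (sY ⁻¹ᵁ W) hW.ge ≫ p = (sY ∣_ W) ≫ p := w₀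
  have hsY : ψ ≫ sY = G.s := hs
  have htY : ψ ≫ tY = G.t := ht
  have hW' : G.t ⁻¹ᵁ W = G.s ⁻¹ᵁ W := by
    rw [← hsY, ← htY]
    exact (Scheme.Hom.comp_preimage ψ tY W).trans ((congrArg (ψ ⁻¹ᵁ ·) hW).trans (Scheme.Hom.comp_preimage ψ sY W).symm)
  have hle : G.s ⁻¹ᵁ W ≤ ψ ⁻¹ᵁ (sY ⁻¹ᵁ W) := by rw [← Scheme.Hom.comp_preimage, hsY]
  let ψW : (G.s ⁻¹ᵁ W).toScheme ⟶ (sY ⁻¹ᵁ W).toScheme := ψ.resLE (sY ⁻¹ᵁ W) (G.s ⁻¹ᵁ W) hle
  have hψs : ψW ≫ (sY ∣_ W) = G.s ∣_ W := by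
    rw [← cancel_mono W.ι, Category.assoc, morphismRestrict_ι, morphismRestrict_ι, ← Category.assoc,
      Scheme.Hom.resLE_comp_ι, Category.assoc, hsY]
  have hψt : ψW ≫ tY.resLE W (sY ⁻¹ᵁ W) hW.ge = G.t.resLE W (G.s ⁻¹ᵁ W) hW'.ge := by
    rw [← cancel_mono W.ι, Category.assoc, Scheme.Hom.resLE_comp_ι, Scheme.Hom.resLE_comp_ι, ← Category.assoc,
      Scheme.Hom.resLE_comp_ι, Category.assoc, htY]
  haveI : Surjective ψW := ⟨fun y => by
    obtain ⟨x, hx⟩ := ψ.surjective y.1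
    have hxm : x ∈ G.s ⁻¹ᵁ W := by
      rw [← hsY, Scheme.Hom.comp_preimage]
      show ψ x ∈ sY ⁻¹ᵁ W
      rw [hx]
      exact y.2
    refine ⟨⟨x, hxm⟩, Subtype.ext ?_⟩
    show (sY ⁻¹ᵁ W).ι (ψW ⟨x, hxm⟩) = y.1
    rw [← Scheme.Hom.comp_apply, Scheme.Hom.resLE_comp_ι, Scheme.Hom.comp_apply]
    exact hx⟩
  haveI : Flat ψW := inferInstance
  haveI : LocallyOfFinitePresentation ψW := inferInstance
  haveI : Epi ψW := inferInstance
  have w' : G.t.resLE W (G.s ⁻¹ᵁ W) hW'.ge ≫ p = (G.s ∣_ W) ≫ p := by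
    rw [← hψt, ← hψs, Category.assoc, Category.assoc, w]
  refine ⟨W, hW', hd, V, p, w', q, ⟨Cofork.IsColimit.ofExistsUnique fun s => ?_⟩, hq₀, hps₀, (hmono inferInstance).2,
    hpf₀, inferInstance, hqc⟩
  obtain ⟨c⟩ := hcol
  have hs' : tY.resLE W (sY ⁻¹ᵁ W) hW.ge ≫ s.π = (sY ∣_ W) ≫ s.π := by
    rw [← cancel_epi ψW, ← Category.assoc, ← Category.assoc, hψt, hψs]
    exact s.condition
  obtain ⟨l, hl⟩ := Cofork.IsColimit.desc' c s.π hs'
  exact ⟨l, hl, fun l' hl' => Cofork.IsColimit.hom_ext c (hl'.trans hl.symm)⟩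

end Groth.Agent.FlatStab19
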