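import Groth.Agent.Lib.GrpQuot.Conj
import Groth.Agent.Lib.GrpdB.Calc
import Mathlib.AlgebraicGeometry.Morphisms.Flat

/-!
# The kernel pair of `(t, s)` and the stabilizer
-/

set_option autoImplicit false
set_option linter.style.haveILetI false
set_option backward.isDefEq.respectTransparency.types false
universe u

open CategoryTheory CategoryTheory.Limits AlgebraicGeometry

noncomputable section

namespace Groth.Agent.FlatStab19

open Groth.Agent.GrpdB Groth.Agent.GrpQuot

variable {S : Scheme.{u}} (G : Grpd.GroupoidScheme S)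

/-- Pairs of parallel arrows are loops followed by an arrow. -/
theorem exists_iso_kernelPair : ∃ φ : pullback G.j G.j ≅ pullback G.stabilizerToU G.t,
    φ.hom ≫ pullback.snd G.stabilizerToU G.t = pullback.snd G.j G.j := by
  let A : pullback G.j G.j ⟶ G.R := pullback.fst G.j G.j
  let B : pullback G.j G.j ⟶ G.R := pullback.snd G.j G.j
  have hab : A ≫ G.s = inv' B ≫ G.t := (s_eq_of_comp_j pullback.condition).trans (inv_t _).symm
  let κ : pullback G.j G.j ⟶ pullback G.stabilizerToU G.t :=
    pullback.lift (stabLift G (cmp G A (inv' B) hab) (B ≫ G.t)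
      ((cmp_t _ _ _).trans (t_eq_of_comp_j pullback.condition)) ((cmp_s _ _ _).trans (inv_s _))) B
      (stabLift_toU _ _ _ _ _)
  let z := pullback.fst G.stabilizerToU G.t ≫ pullback.fst G.j G.diag
  let r := pullback.snd G.stabilizerToU G.t
  have hzs : z ≫ G.s = r ≫ G.t := (stab_s G _).trans pullback.condition
  have hzt : z ≫ G.t = r ≫ G.t := (stab_t G _).trans pullback.condition
  have hψ : cmp G z r hzs ≫ G.j = r ≫ G.j := by
    refine pullback.hom_ext ?_ ?_
    · simp only [Category.assoc, j_fst]
      exact (cmp_t _ _ _).trans hzt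
    · simp only [Category.assoc, j_snd]
      exact cmp_s _ _ _
  let μ : pullback G.stabilizerToU G.t ⟶ pullback G.j G.j := pullback.lift (cmp G z r hzs) r hψ
  have hκz : κ ≫ z = cmp G A (inv' B) hab := by simp only [κ, z, pullback.lift_fst_assoc, stabLift_fst]
  have hκr : κ ≫ r = B := pullback.lift_snd _ _ _
  have hμA : μ ≫ A = cmp G z r hzs := pullback.lift_fst _ _ _
  have hμB : μ ≫ B = r := pullback.lift_snd _ _ _
  refine ⟨⟨κ, μ, ?_, ?_⟩, hκr⟩
  · refine pullback.hom_ext ?_ ?_
    · rw [Category.assoc, Category.id_comp]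
      show κ ≫ μ ≫ A = A
      rw [hμA, comp_cmp, cmp_congr hκz hκr]
      exact cancel_right' A B (s_eq_of_comp_j pullback.condition)
    · rw [Category.assoc, Category.id_comp]
      show κ ≫ μ ≫ B = B
      rw [hμB, hκr]
  · refine pullback.hom_ext (stab_ext G ?_ ?_) ?_
    · rw [Category.id_comp, Category.assoc, Category.assoc]
      show μ ≫ κ ≫ z = z
      rw [hκz, comp_cmp, cmp_congr hμA (β' := inv' r) (by rw [← Category.assoc, hμB])]
      exact cancel_right z r hzs
    · rw [Category.id_comp]
      refine (congrArg (· ≫ _) (Category.assoc μ κ _)).trans ?_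
      rw [Category.assoc, Category.assoc, pullback.lift_fst_assoc, stabLift_toU, ← Category.assoc]
      show (μ ≫ B) ≫ G.t = _
      rw [hμB]
      exact (pullback.condition (f := G.stabilizerToU) (g := G.t)).symm
    · rw [Category.assoc, Category.id_comp]
      show μ ≫ κ ≫ r = r
      rw [hκr, hμB]

theorem flat_fst_of_stabilizer [Flat G.stabilizerToU] : Flat (pullback.fst G.j G.j) := by
  obtain ⟨φ, hφ⟩ := exists_iso_kernelPair G
  haveI : Flat (pullback.snd G.j G.j) := by rw [← hφ]; infer_instance
  rw [← pullbackSymmetry_hom_comp_snd]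
  infer_instance

theorem flat_stabilizer_of_kernelPair [Flat (pullback.fst G.j G.j)] : Flat G.stabilizerToU := by
  haveI : Flat (pullback.snd G.j G.j) := by rw [← pullbackSymmetry_hom_comp_fst]; infer_instance
  have he : G.e ≫ G.j = G.diag := by
    refine pullback.hom_ext ?_ ?_
    · rw [Category.assoc, j_fst, G.e_t, diag_fst]
    · rw [Category.assoc, j_snd, G.e_s, diag_snd]
  have sq : IsPullback (pullback.fst (pullback.snd G.j G.j) G.e ≫ pullback.fst G.j G.j)
      (pullback.snd (pullback.snd G.j G.j) G.e) G.j G.diag :=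
    he ▸ (IsPullback.of_hasPullback (pullback.snd G.j G.j) G.e).paste_horiz (IsPullback.of_hasPullback G.j G.j)
  haveI : Flat (pullback.snd (pullback.snd G.j G.j) G.e) := MorphismProperty.pullback_snd _ _ ‹_›
  have h1 : Flat (pullback.snd G.j G.diag) := by
    rw [← sq.isoPullback_inv_snd]
    exact MorphismProperty.comp_mem @Flat _ _ inferInstance ‹_›
  exact h1

end Groth.Agent.FlatStab19
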