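import Groth.Agent.Lib.FlatStab19.Image
import Groth.Agent.Lib.OrbitTop19.Flat

/-!
# Generic flatness of the stabilizer
-/

set_option autoImplicit false
set_option linter.style.haveILetI false
set_option linter.unusedSectionVars false
set_option backward.isDefEq.respectTransparency.types false
universe u

open CategoryTheory CategoryTheory.Limits AlgebraicGeometry TopologicalSpace

noncomputable section

namespace Groth.Agent.FlatStab19

open Groth.Agent.GrpdB Groth.Agent.GrpQuot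

theorem flat_stalkMap_of_generic {X Y : Scheme.{u}} [IsReduced Y] (f : X ⟶ Y) {x : X}
    (h : f x ∈ genericPoints (Y : Type u)) : (f.stalkMap x).hom.Flat := by
  letI : Field (Y.presheaf.stalk (f x)) :=
    (isField_stalk_of_closure_mem_irreducibleComponents Y (f x) h).toField
  algebraize [(f.stalkMap x).hom]
  exact (inferInstance : Module.Flat (Y.presheaf.stalk (f x)) (X.presheaf.stalk x))

variable {S : Scheme.{u}} [AlgebraicGeometry.IsNoetherian S] (G : Grpd.GroupoidScheme S)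
  [Flat G.s] [LocallyOfFiniteType G.s] [QuasiCompact G.s] [LocallyOfFiniteType G.pU] [QuasiCompact G.pU]

/-- Over a reduced object scheme, the stabilizer is flat over a dense saturated open. -/
theorem exists_flat_open [IsReduced G.U] :
    ∃ O : G.U.Opens, G.s ⁻¹ᵁ O = G.t ⁻¹ᵁ O ∧ Dense (O : Set G.U) ∧
      ∀ z : G.stabilizer, G.stabilizerToU z ∈ O → (G.stabilizerToU.stalkMap z).hom.Flat := by
  haveI := GrpdDense19.isNoetherian_U G
  haveI := GrpdDense19.isNoetherian_R G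
  haveI := GrpQuot.flat_t G
  haveI : LocallyOfFiniteType G.t := by
    rw [← G.i_s]
    haveI : IsIso G.i := GrpQuot.isIso_i G
    infer_instance
  haveI := lfp_j G
  haveI : LocallyOfFinitePresentation G.stabilizerToU := MorphismProperty.pullback_snd _ _ ‹_›
  haveI : QuasiCompact G.j := GrpdDense19.quasiCompact_of_noetherian _
  haveI : QuasiCompact G.stabilizerToU := MorphismProperty.pullback_snd _ _ ‹_›
  let L : G.stabilizer.Opens := ⟨_, FlatH4.isOpen_flatLocus G.stabilizerToU⟩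
  let O₁ : G.U.Opens := ⟨_, (isClosed_closure (s := G.stabilizerToU '' (L : Set G.stabilizer)ᶜ)).isOpen_compl⟩
  have hgen : ∀ η ∈ genericPoints (G.U : Type u), η ∈ O₁ := fun η hη =>
    FiniteNhd12.not_mem_closure_image G.stabilizerToU
      (fun v' hv' => GrpdDense19.eq_of_specializes_generic hη hv') L.2.isClosed_compl
      fun x hx he => hx (flat_stalkMap_of_generic G.stabilizerToU (x := x) (he ▸ hη))
  have hd₁ : Dense (O₁ : Set G.U) := fun x => by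
    let C := irreducibleComponent x
    have hC : C ∈ irreducibleComponents (G.U : Type u) := irreducibleComponent_mem_irreducibleComponents x
    have hg : IsGenericPoint hC.1.genericPoint C :=
      hC.1.isGenericPoint_genericPoint (isClosed_of_mem_irreducibleComponents C hC)
    have hgm : hC.1.genericPoint ∈ genericPoints (G.U : Type u) := by
      show closure ({hC.1.genericPoint} : Set G.U) ∈ irreducibleComponents (G.U : Type u)
      rw [hg.def]
      exact hC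
    exact closure_mono (Set.singleton_subset_iff.2 (hgen _ hgm))
      (specializes_iff_mem_closure.1 (IsGenericPoint.specializes hg mem_irreducibleComponent))
  let O : G.U.Opens := ⟨G.t '' (G.s ⁻¹' (O₁ : Set G.U)), G.t.isOpenMap _ (O₁.2.preimage G.s.continuous)⟩
  refine ⟨O, Opens.ext (GrpdB.saturation_invariant _), hd₁.mono (GrpdB.subset_saturation _), ?_⟩
  rintro z ⟨r, hr, hrz⟩
  obtain ⟨conj, sq⟩ := GrpQuot.exists_isPullback_conj G
  obtain ⟨P, hP₁, hP₂⟩ := Scheme.Pullback.exists_preimage_pullback (f := G.stabilizerToU) (g := G.t) z r hrz.symm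
  subst hP₁
  have hflat : ((pullback.snd G.stabilizerToU G.t).stalkMap P).hom.Flat := by
    refine FlatH4.flat_stalkMap_baseChange sq.flip P ?_
    by_contra hn
    refine (show G.stabilizerToU (conj P) ∈ O₁ from ?_) (subset_closure ⟨conj P, hn, rfl⟩)
    rw [← Scheme.Hom.comp_apply, sq.w, Scheme.Hom.comp_apply, hP₂]
    exact hr
  refine Descend.flat_stalkMap_of_comp (pullback.fst G.stabilizerToU G.t) G.stabilizerToU P (Flat.stalkMap _ _) ?_
  rw [pullback.condition, Scheme.Hom.stalkMap_comp]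
  exact RingHom.Flat.comp (Flat.stalkMap _ _) hflat

variable (O : G.U.Opens) (hO : G.s ⁻¹ᵁ O = G.t ⁻¹ᵁ O)

theorem flat_stabilizer_restr (h : ∀ z : G.stabilizer, G.stabilizerToU z ∈ O → (G.stabilizerToU.stalkMap z).hom.Flat) :
    Flat (restr G O hO).stabilizerToU := by
  let H := restr G O hO
  let g₀ : H.stabilizer ⟶ (G.s ⁻¹ᵁ O).toScheme := pullback.fst H.j H.diag
  let u₀ : H.stabilizer ⟶ O.toScheme := H.stabilizerToU
  have hgt : (g₀ ≫ (G.s ⁻¹ᵁ O).ι) ≫ G.t = u₀ ≫ O.ι :=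
    comp_tO G O hO (r := g₀) (x := u₀) ((congrArg (· ≫ H.t) (Category.id_comp _).symm).trans
      ((Category.assoc _ _ _).trans (stab_t H (𝟙 H.stabilizer) |> fun e => by simpa using e)))
  have hgs : (g₀ ≫ (G.s ⁻¹ᵁ O).ι) ≫ G.s = u₀ ≫ O.ι :=
    comp_sO G O (r := g₀) (x := u₀) ((congrArg (· ≫ H.s) (Category.id_comp _).symm).trans
      ((Category.assoc _ _ _).trans (stab_s H (𝟙 H.stabilizer) |> fun e => by simpa using e)))
  let σ : H.stabilizer ⟶ G.stabilizer := stabLift G (g₀ ≫ (G.s ⁻¹ᵁ O).ι) (u₀ ≫ O.ι) hgt hgs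
  have hσ : σ ≫ G.stabilizerToU = u₀ ≫ O.ι := stabLift_toU _ _ _ _ _
  have key : ∀ c : PullbackCone G.stabilizerToU O.ι, ∃ l : c.pt ⟶ H.stabilizer, l ≫ σ = c.fst ∧ l ≫ u₀ = c.snd := by
    intro c
    let g := c.fst ≫ pullback.fst G.j G.diag
    have gt : g ≫ G.t = c.snd ≫ O.ι := (stab_t G c.fst).trans c.condition
    have gs : g ≫ G.s = c.snd ≫ O.ι := (stab_s G c.fst).trans c.condition
    have hg : ∀ z, G.s (g z) ∈ O := fun z => by
      rw [← Scheme.Hom.comp_apply, gs, Scheme.Hom.comp_apply]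
      exact (c.snd z).2
    refine ⟨stabLift H (liftR G O g hg) c.snd ((cancel_mono O.ι).1 ?_) ((cancel_mono O.ι).1 ?_), ?_,
      stabLift_toU _ _ _ _ _⟩
    · exact (Category.assoc _ _ _).trans ((congrArg (_ ≫ ·) (tO_ι G O hO)).trans ((liftR_ι_assoc G O g hg G.t).trans gt))
    · exact (Category.assoc _ _ _).trans ((congrArg (_ ≫ ·) (sO_ι G O)).trans ((liftR_ι_assoc G O g hg G.s).trans gs))
    · refine stab_ext G ?_ ?_
      · rw [Category.assoc, stabLift_fst, ← Category.assoc]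
        exact (congrArg (· ≫ (G.s ⁻¹ᵁ O).ι) (stabLift_fst H _ _ _ _)).trans (liftR_ι G O g hg)
      · rw [Category.assoc, hσ, ← Category.assoc]
        exact (congrArg (· ≫ O.ι) (stabLift_toU H _ _ _ _)).trans c.condition.symm
  have sq : IsPullback σ u₀ G.stabilizerToU O.ι := by
    refine ⟨⟨hσ⟩, ⟨PullbackCone.IsLimit.mk _ (fun c => (key c).choose) (fun c => (key c).choose_spec.1)
      (fun c => (key c).choose_spec.2) fun c m h1 h2 => stab_ext H ?_ ?_⟩⟩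
    · refine (cancel_mono (G.s ⁻¹ᵁ O).ι).1 ?_
      have e₁ := congrArg (· ≫ pullback.fst G.j G.diag) (h1.trans (key c).choose_spec.1.symm)
      have hσf : σ ≫ pullback.fst G.j G.diag = g₀ ≫ (G.s ⁻¹ᵁ O).ι := stabLift_fst _ _ _ _ _
      exact (Category.assoc _ _ _).trans ((congrArg (_ ≫ ·) hσf.symm).trans (((Category.assoc _ _ _).symm.trans e₁).trans
        ((Category.assoc _ _ _).trans ((congrArg (_ ≫ ·) hσf).trans (Category.assoc _ _ _).symm))))
    · exact h2.trans (key c).choose_spec.2.symm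
  refine Flat.of_stalkMap _ fun x => ?_
  refine FlatH4.flat_stalkMap_baseChange sq.flip x (h _ ?_)
  rw [← Scheme.Hom.comp_apply, hσ, Scheme.Hom.comp_apply]
  exact (u₀ x).2

/-- Transport of a quotient from an invariant open. -/
theorem quotient_of_restr (hd : Dense (O : Set G.U))
    (h : ∃ (W : (restr G O hO).U.Opens) (hW : (restr G O hO).t ⁻¹ᵁ W = (restr G O hO).s ⁻¹ᵁ W),
      Dense (W : Set (restr G O hO).U) ∧
      ∃ (V : Scheme.{u}) (p : (W : Scheme.{u}) ⟶ V)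
        (w : (restr G O hO).t.resLE W ((restr G O hO).s ⁻¹ᵁ W) hW.ge ≫ p = ((restr G O hO).s ∣_ W) ≫ p) (q : V ⟶ S),
        Nonempty (IsColimit (Cofork.ofπ p w)) ∧ p ≫ q = W.ι ≫ (restr G O hO).pU ∧
        Surjective p ∧ Flat p ∧ LocallyOfFinitePresentation p ∧ LocallyOfFiniteType q ∧ QuasiCompact q) :
    ∃ (W : G.U.Opens) (hW : G.t ⁻¹ᵁ W = G.s ⁻¹ᵁ W), Dense (W : Set G.U) ∧
      ∃ (V : Scheme.{u}) (p : (W : Scheme.{u}) ⟶ V)
        (w : G.t.resLE W (G.s ⁻¹ᵁ W) hW.ge ≫ p = (G.s ∣_ W) ≫ p) (q : V ⟶ S),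
        Nonempty (IsColimit (Cofork.ofπ p w)) ∧ p ≫ q = W.ι ≫ G.pU ∧
        Surjective p ∧ Flat p ∧ LocallyOfFinitePresentation p ∧ LocallyOfFiniteType q ∧ QuasiCompact q := by
  obtain ⟨W₀, hW₀, hd₀, V, p₀, w₀, q, ⟨hc⟩, hq₀, h1, h2, h3, h4, h5⟩ := h
  let W' : O.toScheme.Opens := W₀
  let W : G.U.Opens := O.ι ''ᵁ W'
  have hmemW : ∀ x, x ∈ W ↔ ∃ hx : x ∈ O, (⟨x, hx⟩ : O.toScheme) ∈ W' := fun x =>
    ⟨fun ⟨⟨a, ha⟩, h, e⟩ => e ▸ ⟨ha, h⟩, fun ⟨hx, h⟩ => ⟨⟨x, hx⟩, h, rfl⟩⟩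
  have hWs : ∀ r : G.R, (hr : G.s r ∈ O) → (G.t r ∈ W ↔ G.s r ∈ W) := fun r hr => by
    have h0 := SetLike.ext_iff.1 hW₀ (show (G.s ⁻¹ᵁ O).toScheme from ⟨r, hr⟩)
    have a1 : (tO G O hO ⟨r, hr⟩).1 = G.t r := by
      show O.ι (tO G O hO ⟨r, hr⟩) = G.t r
      rw [← Scheme.Hom.comp_apply, tO_ι G O hO, Scheme.Hom.comp_apply]
      rfl
    have a2 : (sO G O ⟨r, hr⟩).1 = G.s r := morphismRestrict_base_coe _ _ _
    rw [← a1, ← a2]
    exact ⟨fun ⟨b, hb, e⟩ => by obtain rfl := O.ι.isEmbedding.injective e; exact ⟨_, h0.1 hb, rfl⟩,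
      fun ⟨b, hb, e⟩ => by obtain rfl := O.ι.isEmbedding.injective e; exact ⟨_, h0.2 hb, rfl⟩⟩
  have hW : G.t ⁻¹ᵁ W = G.s ⁻¹ᵁ W := by
    ext r
    show G.t r ∈ W ↔ G.s r ∈ W
    constructor
    · intro h
      exact (hWs r ((SetLike.ext_iff.1 hO r).2 ((hmemW _).1 h).1)).1 h
    · intro h
      exact (hWs r ((hmemW _).1 h).1).2 h
  let e : W'.toScheme ≅ W.toScheme := O.ι.isoImage W'
  have he : e.hom ≫ W.ι = W'.ι ≫ O.ι := O.ι.isoImage_hom_ι W'
  let sH : (G.s ⁻¹ᵁ O).toScheme ⟶ O.toScheme := sO G O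
  have hk : sH ⁻¹ᵁ W' ≤ (G.s ⁻¹ᵁ O).ι ⁻¹ᵁ (G.s ⁻¹ᵁ W) := fun x hx =>
    ⟨sH x, hx, morphismRestrict_base_coe _ _ _⟩
  let k : (sH ⁻¹ᵁ W').toScheme ⟶ (G.s ⁻¹ᵁ W).toScheme := (G.s ⁻¹ᵁ O).ι.resLE (G.s ⁻¹ᵁ W) (sH ⁻¹ᵁ W') hk
  haveI : Surjective k := ⟨fun ⟨r, hr⟩ => by
    obtain ⟨hrO, hrW⟩ := (hmemW _).1 hr
    have : sH ⟨r, hrO⟩ = ⟨G.s r, hrO⟩ := Subtype.ext (morphismRestrict_base_coe _ _ _)
    refine ⟨⟨⟨r, hrO⟩, show sH ⟨r, hrO⟩ ∈ W' from this ▸ hrW⟩, Subtype.ext ?_⟩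
    show (G.s ⁻¹ᵁ W).ι (k _) = r
    rw [← Scheme.Hom.comp_apply, Scheme.Hom.resLE_comp_ι, Scheme.Hom.comp_apply]
    rfl⟩
  haveI : IsOpenImmersion (k ≫ (G.s ⁻¹ᵁ W).ι) := by
    rw [Scheme.Hom.resLE_comp_ι]; infer_instance
  haveI : IsOpenImmersion k := IsOpenImmersion.of_comp k (G.s ⁻¹ᵁ W).ι
  haveI : Flat k := inferInstance
  haveI : LocallyOfFinitePresentation k := inferInstance
  haveI : Epi k := inferInstance
  have hks : k ≫ (G.s ∣_ W) = (sH ∣_ W') ≫ e.hom := by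
    rw [← cancel_mono W.ι, Category.assoc, Category.assoc, he, morphismRestrict_ι, ← Category.assoc,
      Scheme.Hom.resLE_comp_ι, morphismRestrict_ι_assoc, Category.assoc]
    exact congrArg (_ ≫ ·) (sO_ι G O).symm
  let tH : (G.s ⁻¹ᵁ O).toScheme ⟶ O.toScheme := tO G O hO
  have hW'' : tH ⁻¹ᵁ W' = sH ⁻¹ᵁ W' := hW₀
  have hkt : k ≫ G.t.resLE W (G.s ⁻¹ᵁ W) hW.ge = tH.resLE W' (sH ⁻¹ᵁ W') hW''.ge ≫ e.hom := by
    rw [← cancel_mono W.ι, Category.assoc, Category.assoc, he, Scheme.Hom.resLE_comp_ι, ← Category.assoc,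
      Scheme.Hom.resLE_comp_ι, Scheme.Hom.resLE_comp_ι_assoc, Category.assoc]
    exact congrArg (_ ≫ ·) (tO_ι G O hO).symm
  let p₁ : W'.toScheme ⟶ V := p₀
  have w₁ : tH.resLE W' (sH ⁻¹ᵁ W') hW''.ge ≫ p₁ = (sH ∣_ W') ≫ p₁ := w₀
  have w : G.t.resLE W (G.s ⁻¹ᵁ W) hW.ge ≫ e.inv ≫ p₁ = (G.s ∣_ W) ≫ e.inv ≫ p₁ := by
    rw [← cancel_epi k, reassoc_of% hkt, reassoc_of% hks, Iso.hom_inv_id_assoc]
    exact w₁
  have hpq : p₁ ≫ q = W'.ι ≫ O.ι ≫ G.pU := hq₀
  haveI : Surjective p₁ := h1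
  haveI : Flat p₁ := h2
  haveI : LocallyOfFinitePresentation p₁ := h3
  refine ⟨W, hW, ?_, V, e.inv ≫ p₁, w, q, ⟨Cofork.IsColimit.ofExistsUnique fun s => ?_⟩, ?_, inferInstance,
    inferInstance, inferInstance, h4, h5⟩
  · have hr : (O : Set G.U) ⊆ closure (W : Set G.U) := fun x hx =>
      (image_closure_subset_closure_image O.ι.continuous) ⟨⟨x, hx⟩, hd₀ (⟨x, hx⟩ : O.toScheme), rfl⟩
    exact fun x => closure_minimal hr isClosed_closure (hd x)
  · have hs' : tH.resLE W' (sH ⁻¹ᵁ W') hW''.ge ≫ e.hom ≫ s.π = (sH ∣_ W') ≫ e.hom ≫ s.π := by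
      rw [← reassoc_of% hkt, ← reassoc_of% hks]
      exact congrArg (k ≫ ·) s.condition
    obtain ⟨l, hl⟩ := Cofork.IsColimit.desc' hc (e.hom ≫ s.π) hs'
    replace hl : p₁ ≫ l = e.hom ≫ s.π := hl
    refine ⟨l, show (e.inv ≫ p₁) ≫ l = s.π by rw [Category.assoc, hl, Iso.inv_hom_id_assoc], fun l' hl' => ?_⟩
    replace hl' : (e.inv ≫ p₁) ≫ l' = s.π := hl'
    refine Cofork.IsColimit.hom_ext hc ?_
    show p₁ ≫ l' = p₁ ≫ l
    rw [hl, ← hl']
    simp
  · rw [Category.assoc, hpq, ← reassoc_of% he, Iso.inv_hom_id_assoc]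

theorem exists_quotient_of_reduced [IsReduced G.U] :
    ∃ (W : G.U.Opens) (hW : G.t ⁻¹ᵁ W = G.s ⁻¹ᵁ W), Dense (W : Set G.U) ∧
      ∃ (V : Scheme.{u}) (p : (W : Scheme.{u}) ⟶ V)
        (w : G.t.resLE W (G.s ⁻¹ᵁ W) hW.ge ≫ p = (G.s ∣_ W) ≫ p) (q : V ⟶ S),
        Nonempty (IsColimit (Cofork.ofπ p w)) ∧ p ≫ q = W.ι ≫ G.pU ∧
        Surjective p ∧ Flat p ∧ LocallyOfFinitePresentation p ∧ LocallyOfFiniteType q ∧ QuasiCompact q := by
  haveI := GrpdDense19.isNoetherian_U G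
  haveI := GrpdDense19.isNoetherian_R G
  obtain ⟨O, hO, hd, hfl⟩ := exists_flat_open G
  let H := restr G O hO
  haveI : Flat H.stabilizerToU := flat_stabilizer_restr G O hO hfl
  haveI : Flat H.s := inferInstanceAs (Flat (G.s ∣_ O))
  haveI : LocallyOfFiniteType H.s := inferInstanceAs (LocallyOfFiniteType (G.s ∣_ O))
  haveI : QuasiCompact H.s := IsZariskiLocalAtTarget.restrict (P := @QuasiCompact) ‹QuasiCompact G.s› O
  haveI : LocallyOfFiniteType H.pU := inferInstanceAs (LocallyOfFiniteType (O.ι ≫ G.pU))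
  haveI : AlgebraicGeometry.IsNoetherian O.toScheme :=
    { toCompactSpace := isCompact_iff_compactSpace.1 (TopologicalSpace.NoetherianSpace.isCompact (O : Set G.U))
      toIsLocallyNoetherian := inferInstance }
  haveI : QuasiCompact H.pU := GrpdDense19.quasiCompact_of_noetherian (O.ι ≫ G.pU)
  exact quotient_of_restr G O hO hd (exists_quotient_of_flat H)

end Groth.Agent.FlatStab19
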